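/-
S3332 from Bender's core theorem (the statement of S1221 taken as a hypothesis): the strongly
embedded branch of `cores_trivial_or_se` has a core which would lie in `O(G) = 1`.
-/
import Cfsg.Agent.Lib.SolvCores.Main

set_option autoImplicit false

namespace Cfsg.Agent.SolvCores

open Subgroup

/-- The statement of S1221 as a predicate. -/
def CoreStmt (G : Type*) [Group G] [Finite G] : Prop :=
  ∀ H : Subgroup G, Cfsg.IsStronglyEmbedded H →
    (Cfsg.oddCore ↥H).map H.subtype ≤ Cfsg.oddCore G

/-- S3332 from the statement of S1221. -/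
theorem cores_trivial_of_coreStmt {G : Type*} [Group G] [Finite G] (hB : CoreStmt G)
    (hO : Cfsg.oddCore G = ⊥) (S : Sylow 2 G) (A : Subgroup G) (hAS : A ≤ S)
    (hAn : (A.subgroupOf S).Normal) (hAc : IsMulCommutative A) (hA3 : ¬ Cfsg.PRankLE 2 2 A)
    (hsol : ∀ t : G, orderOf t = 2 → Group.IsSolvable ↥(centralizer ({t} : Set G))) :
    ∀ t : G, orderOf t = 2 → Cfsg.oddCore ↥(centralizer ({t} : Set G)) = ⊥ := by
  rcases cores_trivial_or_se hO S A hAS hAn hAc hA3 hsol with h | ⟨H, hH, hHO⟩
  · exact h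
  · refine absurd ?_ hHO
    have h1 := (hB H hH).trans (le_of_eq hO)
    exact (Subgroup.map_eq_bot_iff_of_injective _ H.subtype_injective).mp (le_bot_iff.mp h1)

end Cfsg.Agent.SolvCores
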