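import Cfsg.Agent.Lib.FiniteGroup.FrattiniAut
import Cfsg.Agent.Lib.FGStruct.AbelianCyclic
import Cfsg.Agent.Lib.BGroup.Cyclic
import Cfsg.Agent.Lib.Solvable.Fitting
import Cfsg.Agent.Lib.Transfer.Basic
import Cfsg.Agent.Lib.Signalizer.SFT.Equivariant

/-!
A solvable group with trivial odd core and 2-rank at least three has a four subgroup in its 2-core.
-/

set_option autoImplicit false
set_option linter.style.haveILetI false

universe u

namespace Cfsg.Agent.SolvCores

open Subgroup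

theorem ea_zpowers {X : Type*} [Group X] {x : X} (hx : x ^ 2 = 1) :
    Cfsg.IsElementaryAbelian 2 (zpowers x) := by
  refine ⟨inferInstance, fun z hz => ?_⟩
  obtain ⟨i, rfl⟩ := mem_zpowers_iff.1 hz
  rw [← zpow_natCast, ← zpow_mul, mul_comm, zpow_mul, zpow_natCast, hx, one_zpow]

/-- An elementary subgroup strictly above one of order at least two has order at least four. -/
theorem card_ge_of_lt {X : Type u} [Group X] [Finite X] {E D : Subgroup X}
    (hD : Cfsg.IsElementaryAbelian 2 D) (hED : E < D) {k : ℕ} (hE : 2 ^ k ≤ Nat.card E) :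
    2 ^ (k + 1) ≤ Nat.card D := by
  obtain ⟨n, hn⟩ := (Cfsg.Agent.Signalizer.ea_isPGroup hD).exists_card_eq
  have hlt : Nat.card E < Nat.card D := by
    by_contra h
    exact hED.ne (eq_of_le_of_card_ge hED.le (not_lt.1 h))
  rw [hn] at hlt ⊢
  exact Nat.pow_le_pow_right (by norm_num)
    ((Nat.pow_lt_pow_iff_right (by norm_num)).1 (hE.trans_lt hlt))

theorem card_le_four {Q : Type*} [Group Q] [Finite Q] (hexp : ∀ x : Q, x ^ 2 = 1) {u v : Q}
    (h : closure ({u, v} : Set Q) = ⊤) : Nat.card Q ≤ 4 := by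
  have hinv : ∀ x : Q, x⁻¹ = x := fun x => inv_eq_of_mul_eq_one_left (by rw [← pow_two, hexp])
  have hcomm : ∀ a b : Q, Commute a b := fun a b => by
    show a * b = b * a
    rw [← hinv (a * b), mul_inv_rev, hinv, hinv]
  have hall : ∀ x : Q, ∃ i j : ℕ, u ^ i * v ^ j = x := by
    intro x
    have hx : x ∈ closure ({u, v} : Set Q) := h ▸ mem_top x
    induction hx using closure_induction with
    | mem y hy =>
      rcases hy with rfl | rfl
      · exact ⟨1, 0, by simp⟩
      · exact ⟨0, 1, by simp⟩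
    | one => exact ⟨0, 0, by simp⟩
    | mul a b _ _ ha hb =>
      obtain ⟨i, j, rfl⟩ := ha
      obtain ⟨k, l, rfl⟩ := hb
      refine ⟨i + k, j + l, ?_⟩
      rw [pow_add, pow_add, (hcomm (v ^ j) (u ^ k)).symm.mul_mul_mul_comm]
    | inv a _ ha => rwa [hinv]
  let f : Fin 2 × Fin 2 → Q := fun p => u ^ (p.1 : ℕ) * v ^ (p.2 : ℕ)
  refine (Nat.card_le_card_of_surjective f fun x => ?_).trans (by simp)
  obtain ⟨i, j, hx⟩ := hall x
  subst hx
  refine ⟨(⟨i % 2, Nat.mod_lt _ (by norm_num)⟩, ⟨j % 2, Nat.mod_lt _ (by norm_num)⟩), ?_⟩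
  show u ^ (i % 2) * v ^ (j % 2) = _
  rw [← pow_eq_pow_mod i (hexp u), ← pow_eq_pow_mod j (hexp v)]

theorem two_generated {F : Type*} [Group F] [Finite F] (hab : AbCyc.AbCyclic F)
    (hF : IsPGroup 2 F) : ∃ a b : F, closure ({a, b} : Set F) = ⊤ := by
  rcases AbCyc.structure_of_pGroup hab hF with hc | ⟨-, A, -, hAc, hidx, -, -, -⟩
  · obtain ⟨g, hg⟩ := hc.exists_generator
    refine ⟨g, 1, eq_top_iff.2 fun x _ => ?_⟩
    exact (zpowers_le.2 (subset_closure (Set.mem_insert g {1}))) (hg x)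
  · obtain ⟨a, ha⟩ := hAc.exists_generator
    obtain ⟨b, hb⟩ : ∃ b, b ∉ A := by
      by_contra! h
      have hA : A = ⊤ := eq_top_iff.2 fun x _ => h x
      rw [hA] at hidx
      simp at hidx
    refine ⟨a, b, eq_top_iff.2 fun x _ => ?_⟩
    have hA : A ≤ closure ({(a : F), b} : Set F) := fun y hy => by
      obtain ⟨i, hi⟩ := mem_zpowers_iff.1 (ha ⟨y, hy⟩)
      have := zpow_mem (subset_closure (Set.mem_insert (a : F) {b})) i
      rwa [← SubgroupClass.coe_zpow, hi] at this
    by_cases hx : x ∈ A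
    · exact hA hx
    · have h1 : b⁻¹ * x ∈ A := by
        rw [mul_mem_iff_of_index_two hidx, inv_mem_iff]
        exact ⟨fun h => absurd h hb, fun h => absurd h hx⟩
      have hbm : b ∈ closure ({(a : F), b} : Set F) := subset_closure (by simp)
      have := mul_mem hbm (hA h1)
      rwa [mul_inv_cancel_left] at this

variable {X : Type u} [Group X] [Finite X]

theorem abCyclic_of_small {F : Subgroup X} (hF : IsPGroup 2 ↥F)
    (hsmall : ∀ D ≤ F, Cfsg.IsElementaryAbelian 2 D → Nat.card D < 4) : AbCyc.AbCyclic ↥F := by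
  haveI : Fact (Nat.Prime 2) := ⟨Nat.prime_two⟩
  intro A hA
  letI : CommGroup ↥A := { (inferInstance : Group ↥A) with mul_comm := mul_comm' }
  refine BGroup.isCyclic_of_unique_prime fun r hr x y hx hy => ?_
  obtain ⟨k, hk⟩ := IsPGroup.iff_orderOf.1 (hF.to_subgroup A) x
  rw [hx] at hk
  obtain rfl : r = 2 := ((Nat.prime_dvd_prime_iff_eq hr Nat.prime_two).1
    (hr.dvd_of_dvd_pow (dvd_of_eq hk)))
  by_contra hxy
  let ι : ↥A →* X := F.subtype.comp A.subtype
  set x' : X := ι x with hx'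
  set y' : X := ι y with hy'
  have hx2 : x' ^ 2 = 1 := by
    rw [hx', ← map_pow, ← hx, pow_orderOf_eq_one, map_one]
  have hy2 : y' ^ 2 = 1 := by
    rw [hy', ← map_pow, ← hy, pow_orderOf_eq_one, map_one]
  have hc : Commute x' y' := (Commute.all x y).map ι
  have hD : Cfsg.IsElementaryAbelian 2 (zpowers x' ⊔ zpowers y') :=
    Signalizer.SFT.ea_sup (ea_zpowers hx2) (ea_zpowers hy2) fun a ha b hb => by
      obtain ⟨i, rfl⟩ := mem_zpowers_iff.1 ha
      obtain ⟨j, rfl⟩ := mem_zpowers_iff.1 hb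
      exact (hc.zpow_zpow i j).eq
  have hlt : zpowers x' < zpowers x' ⊔ zpowers y' := by
    refine lt_of_le_of_ne le_sup_left fun h => hxy ?_
    have hy' : y' ∈ zpowers x' := h ▸ mem_sup_right (mem_zpowers y')
    obtain ⟨i, hi⟩ := mem_zpowers_iff.1 hy'
    refine ⟨i, (F.subtype_injective.comp A.subtype_injective : Function.Injective ι) ?_⟩
    exact (map_zpow ι x i).trans hi
  have h4 := card_ge_of_lt (k := 1) hD hlt (by
    rw [Nat.card_zpowers, hx', orderOf_injective ι (F.subtype_injective.comp A.subtype_injective), hx, pow_one])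
  exact absurd h4 (not_le.2 (hsmall _ (sup_le (zpowers_le.2 (x : F).2) (zpowers_le.2 (y : F).2)) hD))

theorem frattini_index {F : Type*} [Group F] [Finite F] (hab : AbCyc.AbCyclic F) (hF : IsPGroup 2 F) :
    ∃ n r : ℕ, Nat.card F = 2 ^ n ∧ (frattini F).index = 2 ^ r ∧ r ≤ 2 := by
  haveI : Fact (Nat.Prime 2) := ⟨Nat.prime_two⟩
  obtain ⟨a, b, hgen⟩ := two_generated hab hF
  obtain ⟨n, hn⟩ := hF.exists_card_eq
  obtain ⟨r, hr⟩ : ∃ r, (frattini F).index = 2 ^ r := by
    obtain ⟨r, -, hr⟩ := (Nat.dvd_prime_pow Nat.prime_two).1 (hn ▸ (frattini F).index_dvd_card)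
    exact ⟨r, hr⟩
  refine ⟨n, r, hn, hr, ?_⟩
  have h4 : Nat.card (F ⧸ frattini F) ≤ 4 := by
    refine card_le_four (fun z => ?_) (u := (a : F ⧸ frattini F)) (v := (b : F ⧸ frattini F)) ?_
    · obtain ⟨y, rfl⟩ := QuotientGroup.mk_surjective z
      rw [← QuotientGroup.mk_pow, QuotientGroup.eq_one_iff]
      exact Cfsg.Agent.PGroupBasics.pow_mem_frattini hF y
    · have h := congrArg (Subgroup.map (QuotientGroup.mk' (frattini F))) hgen
      rw [MonoidHom.map_closure, ← MonoidHom.range_eq_map, QuotientGroup.range_mk',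
        Set.image_pair] at h
      exact h
  rw [← Subgroup.index_eq_card, hr] at h4
  exact (Nat.pow_le_pow_iff_right (le_refl 2)).1 (h4 : 2 ^ r ≤ 2 ^ 2)

set_option maxHeartbeats 1000000 in
/-- A group of characteristic two and 2-rank at least three has a four subgroup in its 2-core. -/
theorem exists_four_pCore_of_le (hcent : centralizer (Cfsg.pCore 2 X : Set X) ≤ Cfsg.pCore 2 X) {E : Subgroup X}
    (hE : Cfsg.IsElementaryAbelian 2 E) (h8 : 8 ≤ Nat.card E) :
    ∃ D ≤ Cfsg.pCore 2 X, Cfsg.IsElementaryAbelian 2 D ∧ 4 ≤ Nat.card D := by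
  classical
  by_contra! hsmall
  haveI : Fact (Nat.Prime 2) := ⟨Nat.prime_two⟩
  haveI : (Cfsg.pCore 2 X).Normal := inferInstance
  set F := Cfsg.pCore 2 X with hFdef
  have hF : IsPGroup 2 ↥F := PBasic.pCore_isPGroup 2 X
  obtain ⟨n, r, hn, hr, hr2⟩ := frattini_index (abCyclic_of_small hF hsmall) hF
  -- the action on the Frattini quotient
  have hchar : ∀ α : MulAut ↥F, (frattini ↥F).map (α : ↥F →* ↥F) = frattini ↥F := fun α =>
    Subgroup.characteristic_iff_map_eq.1 inferInstance α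
  let Φ : MulAut ↥F →* MulAut (↥F ⧸ frattini ↥F) :=
    { toFun := fun α => QuotientGroup.congr (frattini ↥F) (frattini ↥F) α (hchar α)
      map_one' := by
        ext x
        obtain ⟨y, rfl⟩ := QuotientGroup.mk_surjective x
        rfl
      map_mul' := fun α β => by
        ext x
        obtain ⟨y, rfl⟩ := QuotientGroup.mk_surjective x
        rfl }
  have hker : IsPGroup 2 ↥Φ.ker := by
    obtain ⟨m, -, hm⟩ := (Nat.dvd_prime_pow Nat.prime_two).1
      (FrattiniAut.card_dvd_of_trivial hn hr Φ.ker fun α hα x => by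
        have h2 : ((α x : ↥F) : ↥F ⧸ frattini ↥F) = (x : ↥F ⧸ frattini ↥F) :=
          DFunLike.congr_fun (MonoidHom.mem_ker.1 hα) (x : ↥F ⧸ frattini ↥F)
        rw [← QuotientGroup.eq_one_iff, QuotientGroup.mk_mul, QuotientGroup.mk_inv, h2, mul_inv_cancel])
    exact IsPGroup.of_card hm
  set ψ : X →* MulAut (↥F ⧸ frattini ↥F) := Φ.comp MulAut.conjNormal with hψ
  have hN : ψ.ker ≤ F := by
    refine PBasic.le_pCore inferInstance ?_
    intro x
    obtain ⟨i, hi⟩ := hker ⟨MulAut.conjNormal (x : X), x.2⟩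
    have hxi : MulAut.conjNormal ((x : X) ^ 2 ^ i) = (1 : MulAut ↥F) := by
      rw [map_pow]
      exact congrArg Subtype.val hi
    have hmem : (x : X) ^ 2 ^ i ∈ F := hcent (mem_centralizer_iff.2 fun f hf => by
      have h := congrArg Subtype.val (DFunLike.congr_fun hxi ⟨f, hf⟩)
      rw [MulAut.conjNormal_apply] at h
      simpa using (mul_inv_eq_iff_eq_mul.1 h).symm)
    obtain ⟨j, hj⟩ := hF ⟨_, hmem⟩
    refine ⟨i + j, Subtype.ext ?_⟩
    rw [SubgroupClass.coe_pow, pow_add, pow_mul]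
    exact congrArg Subtype.val hj
  set φ : ↥E →* MulAut (↥F ⧸ frattini ↥F) := ψ.comp E.subtype with hφ
  have h1 : Nat.card φ.ker < 4 := by
    have he : φ.ker.map E.subtype ≤ F := by
      rintro _ ⟨e, he, rfl⟩
      exact hN he
    have := hsmall _ he (Signalizer.ea_mono hE (map_subtype_le _))
    rwa [card_map_of_injective E.subtype_injective] at this
  have h2 : Nat.card φ.range ≤ 2 := by
    have hd : Nat.card φ.range ∣ 6 := by
      refine dvd_trans (Subgroup.card_subgroup_dvd_card φ.range) ?_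
      rw [(FrattiniAut.exists_generators hn hr).2]
      interval_cases r <;> simp [Finset.prod_range_succ]
    obtain ⟨k, hk⟩ := ((Signalizer.ea_isPGroup hE).of_surjective φ.rangeRestrict
      φ.rangeRestrict_surjective).exists_card_eq
    rw [hk] at hd ⊢
    have hk3 : k < 3 := by
      by_contra h
      have h6 := Nat.le_of_dvd (by norm_num) hd
      have := Nat.pow_le_pow_right (show 2 > 0 by norm_num) (not_lt.1 h)
      omega
    interval_cases k <;> simp_all
  have := Subgroup.card_mul_index φ.ker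
  rw [Subgroup.index_ker] at this
  nlinarith

theorem exists_four_pCore [Group.IsSolvable X] (hO : Cfsg.pPrimeCore 2 X = ⊥) {E : Subgroup X}
    (hE : Cfsg.IsElementaryAbelian 2 E) (h8 : 8 ≤ Nat.card E) :
    ∃ D ≤ Cfsg.pCore 2 X, Cfsg.IsElementaryAbelian 2 D ∧ 4 ≤ Nat.card D :=
  haveI : Fact (Nat.Prime 2) := ⟨Nat.prime_two⟩
  exists_four_pCore_of_le (FittingCores.centralizer_pCore_le Nat.prime_two hO) hE h8

end Cfsg.Agent.SolvCores
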