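import Cfsg.Agent.Lib.SolvCores.FourInCore
import Cfsg.Agent.Lib.Techniques.PPrimePCore
import Cfsg.Agent.Lib.Involutions.StronglyEmbedded

/-!
A normal elementary subgroup of order at least eight in a Sylow 2-subgroup and solvable centralisers of
involutions: either all odd cores of these centralisers are trivial or there is a strongly embedded
subgroup with nontrivial odd core.
-/

set_option autoImplicit false
set_option linter.style.haveILetI false

open scoped Pointwise

universe u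

namespace Cfsg.Agent.SolvCores

open Subgroup Cfsg.Agent.Signalizer Cfsg.Agent.Signalizer.SFT

variable {G : Type u} [Group G] [Finite G]

omit [Finite G] in
theorem ea_map {G' : Type*} [Group G'] {B : Subgroup G} (f : G →* G')
    (hB : Cfsg.IsElementaryAbelian 2 B) : Cfsg.IsElementaryAbelian 2 (B.map f) := by
  refine ⟨.of_setLike_mul_comm ?_, ?_⟩
  · rintro _ ⟨a, ha, rfl⟩ _ ⟨b, hb, rfl⟩
    rw [← map_mul, ← map_mul, ea_comm hB ha hb]
  · rintro _ ⟨a, ha, rfl⟩
    rw [← map_pow, hB.2 a ha, map_one]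

theorem four_le {B : Subgroup G} (hB : Cfsg.IsElementaryAbelian 2 B) (h : 3 ≤ Nat.card B) :
    4 ≤ Nat.card B := by
  obtain ⟨n, hn⟩ := (ea_isPGroup hB).exists_card_eq
  rcases n with _ | _ | n
  · simp [hn] at h
  · simp [hn] at h
  · rw [hn, pow_succ, pow_succ]
    have := Nat.one_le_two_pow (n := n)
    omega

theorem eight_le {B : Subgroup G} (hB : Cfsg.IsElementaryAbelian 2 B) (h : 5 ≤ Nat.card B) :
    8 ≤ Nat.card B := by
  obtain ⟨n, hn⟩ := (ea_isPGroup hB).exists_card_eq
  rcases n with _ | _ | _ | n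
  · simp [hn] at h
  · simp [hn] at h
  · simp [hn] at h
  · rw [hn, pow_succ, pow_succ, pow_succ]
    have := Nat.one_le_two_pow (n := n)
    omega

theorem pair_card {a b : G} (hB : Cfsg.IsElementaryAbelian 2 (zpowers a ⊔ zpowers b)) (ha : a ≠ 1)
    (hb : b ∉ zpowers a) : 4 ≤ Nat.card ↥(zpowers a ⊔ zpowers b) := by
  refine card_ge_of_lt (k := 1) hB (lt_of_le_of_ne le_sup_left fun h => hb (h ▸ mem_sup_right (mem_zpowers b))) ?_
  rw [pow_one, Nat.card_zpowers, orderOf_eq_prime (hB.2 a (mem_sup_left (mem_zpowers a))) ha]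

/-- An elementary group normalised by an element of order two is at most the square of the fixed points. -/
theorem card_le_sq {V : Subgroup G} (hV : Cfsg.IsElementaryAbelian 2 V) {t : G} (ht : t * t = 1)
    (hn : ∀ v ∈ V, t * v * t⁻¹ ∈ V) :
    Nat.card V ≤ Nat.card ↥(V ⊓ centralizer ({t} : Set G)) ^ 2 := by
  have hti : t⁻¹ = t := inv_eq_of_mul_eq_one_left ht
  let f : ↥V →* ↥V :=
    { toFun := fun v => ⟨(v : G) * (t * v * t⁻¹), mul_mem v.2 (hn v v.2)⟩
      map_one' := Subtype.ext (by simp)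
      map_mul' := fun v w => Subtype.ext (by
        show (v : G) * w * (t * (v * w) * t⁻¹) = (v : G) * (t * v * t⁻¹) * (w * (t * w * t⁻¹))
        calc (v : G) * w * (t * (v * w) * t⁻¹) = (v : G) * (w * (t * v * t⁻¹)) * (t * w * t⁻¹) := by group
          _ = (v : G) * ((t * v * t⁻¹) * w) * (t * w * t⁻¹) := by rw [ea_comm hV w.2 (hn v v.2)]
          _ = _ := by group) }
  have hk : f.ker.map V.subtype ≤ V ⊓ centralizer ({t} : Set G) := by
    rintro _ ⟨v, hv, rfl⟩
    refine ⟨v.2, mem_centralizer_singleton_iff.2 ?_⟩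
    have h : (v : G) * (t * v * t⁻¹) = 1 := congrArg Subtype.val hv
    have hv2 : (v : G) * v = 1 := by rw [← pow_two]; exact hV.2 v v.2
    have h2 : t * v * t⁻¹ = v := mul_left_cancel (h.trans hv2.symm)
    exact (mul_inv_eq_iff_eq_mul.1 h2).symm
  have hr : f.range.map V.subtype ≤ V ⊓ centralizer ({t} : Set G) := by
    rintro _ ⟨_, ⟨v, rfl⟩, rfl⟩
    refine ⟨(f v).2, mem_centralizer_singleton_iff.2 ?_⟩
    show (v : G) * (t * v * t⁻¹) * t = t * ((v : G) * (t * v * t⁻¹))
    conv_rhs => rw [ea_comm hV v.2 (hn v v.2)]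
    rw [hti, mul_assoc (v : G) (t * v * t) t, mul_assoc (t * v) t t, ht, mul_one]
    simp only [← mul_assoc, ht, one_mul]
  have h := card_mul_index f.ker
  rw [index_ker] at h
  rw [← h, pow_two]
  refine Nat.mul_le_mul ?_ ?_
  · rw [← card_map_of_injective (K := f.ker) V.subtype_injective]
    exact card_le_of_le hk
  · rw [← card_map_of_injective (K := f.range) V.subtype_injective]
    exact card_le_of_le hr

variable {S : Sylow 2 G} {V : Subgroup G}

/-- The standing hypothesis on the elementary subgroup. -/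
structure Hub (S : Sylow 2 G) (V : Subgroup G) : Prop where
  ea : Cfsg.IsElementaryAbelian 2 V
  card : 8 ≤ Nat.card V
  le : V ≤ S
  normal : ∀ s ∈ (S : Subgroup G), ∀ v ∈ V, s * v * s⁻¹ ∈ V

namespace Hub

variable (h : Hub S V)
include h

theorem four_centralizer {d : G} (hd : d * d = 1) (hdS : d ∈ (S : Subgroup G)) :
    4 ≤ Nat.card ↥(V ⊓ centralizer ({d} : Set G)) := by
  refine four_le (ea_mono h.ea inf_le_left) ?_
  have := card_le_sq h.ea hd (h.normal d hdS)
  have := h.card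
  nlinarith

/-- An elementary subgroup of order at least four is linked to the hub. -/
theorem exists_link {D : Subgroup G} (hD : Cfsg.IsElementaryAbelian 2 D) (hDS : D ≤ S)
    (h4 : 4 ≤ Nat.card D) (hDV : ¬ D ≤ V) :
    ∃ z ∈ V, ∃ D' ≤ D, ∃ d ∈ D', z ≠ 1 ∧ d ∉ V ∧ 4 ≤ Nat.card D' ∧ ∀ x ∈ D', z * x = x * z := by
  by_cases hz : ∃ z ∈ D, z ∈ V ∧ z ≠ 1
  · obtain ⟨z, hzD, hzV, hz1⟩ := hz
    obtain ⟨d, hd, hdV⟩ := SetLike.not_le_iff_exists.1 hDV
    exact ⟨z, hzV, D, le_rfl, d, hd, hz1, hdV, h4, fun x hx => ea_comm hD hzD hx⟩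
  · push Not at hz
    have hsq : ∀ x ∈ D, x * x = 1 := fun x hx => by rw [← pow_two]; exact hD.2 x hx
    obtain ⟨d, hd, hd1⟩ : ∃ d ∈ D, d ≠ 1 := by
      by_contra! hall
      rw [(eq_bot_iff_forall D).2 hall] at h4
      simp at h4
    obtain ⟨e, he, hed⟩ : ∃ e ∈ D, e ∉ zpowers d := by
      by_contra! hall
      have := h4.trans (card_le_of_le (show D ≤ zpowers d from hall))
      rw [Nat.card_zpowers, orderOf_eq_prime (hD.2 d hd) hd1] at this
      omega
    set C := V ⊓ centralizer ({d} : Set G) with hC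
    have hC4 := h.four_centralizer (hsq d hd) (hDS hd)
    have hn : ∀ v ∈ C, e * v * e⁻¹ ∈ C := by
      rintro v ⟨hv, hvd⟩
      refine ⟨h.normal e (hDS he) v hv, mem_centralizer_singleton_iff.2 ?_⟩
      have hed' : Commute e d := ea_comm hD he hd
      have hvd' : Commute v d := mem_centralizer_singleton_iff.1 hvd
      exact ((hed'.mul_left hvd').mul_left hed'.inv_left).eq
    have h2 := card_le_sq (ea_mono h.ea inf_le_left) (hsq e he) hn
    obtain ⟨z, hzC, hz1⟩ : ∃ z ∈ C ⊓ centralizer ({e} : Set G), z ≠ 1 := by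
      by_contra! hall
      rw [(eq_bot_iff_forall _).2 hall, card_bot, one_pow] at h2
      exact absurd (hC4.trans h2) (by norm_num)
    obtain ⟨⟨hzV, hzd⟩, hze⟩ := hzC
    refine ⟨z, hzV, zpowers d ⊔ zpowers e, sup_le (zpowers_le.2 hd) (zpowers_le.2 he), d,
      mem_sup_left (mem_zpowers d), hz1, fun hdV => hd1 (hz d hd hdV),
      pair_card (ea_mono hD (sup_le (zpowers_le.2 hd) (zpowers_le.2 he))) hd1 hed, fun x hx => ?_⟩
    have hle : zpowers d ⊔ zpowers e ≤ centralizer ({z} : Set G) :=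
      sup_le (zpowers_le.2 (mem_centralizer_singleton_iff.2 (mem_centralizer_singleton_iff.1 hzd).symm))
        (zpowers_le.2 (mem_centralizer_singleton_iff.2 (mem_centralizer_singleton_iff.1 hze).symm))
    exact (mem_centralizer_singleton_iff.1 (hle hx)).symm

/-- Every elementary subgroup of order at least four extends to one of order at least eight. -/
theorem exists_ext {D : Subgroup G} (hD : Cfsg.IsElementaryAbelian 2 D) (hDS : D ≤ S)
    (h4 : 4 ≤ Nat.card D) :
    ∃ B, D ≤ B ∧ Cfsg.IsElementaryAbelian 2 B ∧ B ≤ (S : Subgroup G) ∧ 8 ≤ Nat.card B := by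
  rcases le_or_gt 5 (Nat.card D) with h5 | h5
  · exact ⟨D, le_rfl, hD, hDS, eight_le hD h5⟩
  by_cases hDV : D ≤ V
  · exact ⟨V, hDV, h.ea, h.le, h.card⟩
  obtain ⟨z, hzV, D', hD', d, hd, hz1, hdV, hD4, hzc⟩ := h.exists_link hD hDS h4 hDV
  obtain rfl : D' = D := eq_of_le_of_card_ge hD' (by omega)
  by_cases hzD : z ∈ D'
  · set C := V ⊓ centralizer ({d} : Set G) with hC
    have hd2 : d * d = 1 := by rw [← pow_two]; exact hD.2 d hd
    have hB : Cfsg.IsElementaryAbelian 2 (C ⊔ zpowers d) :=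
      ea_sup (ea_mono h.ea inf_le_left) (ea_zpowers (hD.2 d hd)) fun a ha b hb => by
        obtain ⟨i, rfl⟩ := mem_zpowers_iff.1 hb
        exact ((show Commute a d from mem_centralizer_singleton_iff.1 ha.2).zpow_right i).eq
    refine ⟨C ⊔ zpowers d, ?_, hB, sup_le (inf_le_left.trans h.le) (zpowers_le.2 (hDS hd)), ?_⟩
    · have hle : zpowers z ⊔ zpowers d ≤ D' := sup_le (zpowers_le.2 hzD) (zpowers_le.2 hd)
      rw [← eq_of_le_of_card_ge hle (le_trans (by omega) (pair_card (ea_mono hD hle) hz1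
        fun hdz => hdV (zpowers_le.2 hzV hdz)))]
      exact sup_le (le_sup_of_le_left (zpowers_le.2 ⟨hzV, mem_centralizer_singleton_iff.2 (hzc d hd)⟩))
        le_sup_right
    · exact card_ge_of_lt (k := 2) hB (lt_of_le_of_ne le_sup_left fun he =>
        hdV ((show C ⊔ zpowers d ≤ V from he ▸ inf_le_left) (mem_sup_right (mem_zpowers d))))
        (h.four_centralizer hd2 (hDS hd))
  · have hB : Cfsg.IsElementaryAbelian 2 (D' ⊔ zpowers z) :=
      ea_sup hD (ea_zpowers (h.ea.2 z hzV)) fun a ha b hb => by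
        obtain ⟨i, rfl⟩ := mem_zpowers_iff.1 hb
        exact ((show Commute a z from (hzc a ha).symm).zpow_right i).eq
    exact ⟨_, le_sup_left, hB, sup_le hDS (zpowers_le.2 (h.le hzV)),
      card_ge_of_lt (k := 2) hB (lt_of_le_of_ne le_sup_left fun he =>
        hzD (he ▸ mem_sup_right (mem_zpowers z))) h4⟩

variable {θ : G → Subgroup G} (Θ : Equivariant 2 θ)
include Θ

theorem closure_adj {D E : Subgroup G} (hD : Cfsg.IsElementaryAbelian 2 D) (hDS : D ≤ S)
    (hD4 : 4 ≤ Nat.card D) (hE : Cfsg.IsElementaryAbelian 2 E) (hES : E ≤ S)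
    (hE4 : 4 ≤ Nat.card E) (hc : ∀ a ∈ D, ∀ b ∈ E, a * b = b * a) :
    thetaClosure θ D = thetaClosure θ E := by
  obtain ⟨B, hle, hB, -, hB8⟩ := h.exists_ext (ea_sup hD hE hc) (sup_le hDS hES)
    (hD4.trans (card_le_of_le le_sup_left))
  rw [← Θ.closure_eq hD4 (le_sup_left.trans hle) hB hB8, ← Θ.closure_eq hE4 (le_sup_right.trans hle) hB hB8]

theorem closure_const {D : Subgroup G} (hD : Cfsg.IsElementaryAbelian 2 D) (hDS : D ≤ S)
    (h4 : 4 ≤ Nat.card D) : thetaClosure θ D = thetaClosure θ V := by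
  by_cases hDV : D ≤ V
  · exact h.closure_adj Θ hD hDS h4 h.ea h.le ((show 4 ≤ 8 by norm_num).trans h.card)
      fun a ha b hb => ea_comm h.ea (hDV ha) hb
  obtain ⟨z, hzV, D', hD', d, hd, hz1, hdV, hD4, hzc⟩ := h.exists_link hD hDS h4 hDV
  have hd2 : d * d = 1 := by rw [← pow_two]; exact hD.2 d (hD' hd)
  have hdS : d ∈ (S : Subgroup G) := hDS (hD' hd)
  set C := V ⊓ centralizer ({d} : Set G) with hC
  have hC4 := h.four_centralizer hd2 hdS
  set E := zpowers z ⊔ zpowers d with hEdef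
  have hE : Cfsg.IsElementaryAbelian 2 E :=
    ea_sup (ea_zpowers (h.ea.2 z hzV)) (ea_zpowers (hD.2 d (hD' hd))) fun a ha b hb => by
      obtain ⟨i, rfl⟩ := mem_zpowers_iff.1 ha
      obtain ⟨j, rfl⟩ := mem_zpowers_iff.1 hb
      exact ((show Commute z d from hzc d hd).zpow_zpow i j).eq
  have hES : E ≤ S := sup_le (zpowers_le.2 (h.le hzV)) (zpowers_le.2 hdS)
  have hE4 : 4 ≤ Nat.card E := pair_card hE hz1 fun hdz => hdV (zpowers_le.2 hzV hdz)
  calc thetaClosure θ D = thetaClosure θ D' :=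
        h.closure_adj Θ hD hDS h4 (ea_mono hD hD') (hD'.trans hDS) hD4
          fun a ha b hb => ea_comm hD ha (hD' hb)
    _ = thetaClosure θ E := h.closure_adj Θ (ea_mono hD hD') (hD'.trans hDS) hD4 hE hES hE4
        fun a ha b hb => by
          have hle : E ≤ centralizer ({a} : Set G) :=
            sup_le (zpowers_le.2 (mem_centralizer_singleton_iff.2 (hzc a ha)))
              (zpowers_le.2 (mem_centralizer_singleton_iff.2 (ea_comm hD (hD' hd) (hD' ha))))
          exact (mem_centralizer_singleton_iff.1 (hle hb)).symm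
    _ = thetaClosure θ C := h.closure_adj Θ hE hES hE4 (ea_mono h.ea inf_le_left)
        (inf_le_left.trans h.le) hC4 fun a ha b hb => by
          have hle : E ≤ centralizer ({b} : Set G) :=
            sup_le (zpowers_le.2 (mem_centralizer_singleton_iff.2 (ea_comm h.ea hzV hb.1)))
              (zpowers_le.2 (mem_centralizer_singleton_iff.2 (mem_centralizer_singleton_iff.1 hb.2).symm))
          exact mem_centralizer_singleton_iff.1 (hle ha)
    _ = thetaClosure θ V := h.closure_adj Θ (ea_mono h.ea inf_le_left) (inf_le_left.trans h.le) hC4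
        h.ea h.le ((show 4 ≤ 8 by norm_num).trans h.card) fun a ha b hb => ea_comm h.ea ha.1 hb

omit Θ in
/-- An involution of the Sylow subgroup lies in an elementary subgroup of order at least four. -/
theorem exists_four {a : G} (ha : orderOf a = 2) (haS : a ∈ (S : Subgroup G)) :
    ∃ E, a ∈ E ∧ Cfsg.IsElementaryAbelian 2 E ∧ E ≤ (S : Subgroup G) ∧ 4 ≤ Nat.card E := by
  have ha2 : a ^ 2 = 1 := ha ▸ pow_orderOf_eq_one a
  refine ⟨(V ⊓ centralizer ({a} : Set G)) ⊔ zpowers a, mem_sup_right (mem_zpowers a), ?_,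
    sup_le (inf_le_left.trans h.le) (zpowers_le.2 haS),
    (h.four_centralizer (by rw [← pow_two]; exact ha2) haS).trans (card_le_of_le le_sup_left)⟩
  exact ea_sup (ea_mono h.ea inf_le_left) (ea_zpowers ha2) fun x hx b hb => by
    obtain ⟨i, rfl⟩ := mem_zpowers_iff.1 hb
    exact ((show Commute x a from mem_centralizer_singleton_iff.1 hx.2).zpow_right i).eq

omit Θ in
theorem isDeep {t : G} (ht : orderOf t = 2) : IsDeep 2 t := by
  haveI : Fact (Nat.Prime 2) := ⟨Nat.prime_two⟩
  obtain ⟨P, hP⟩ := (IsPGroup.of_card (n := 1) (p := 2)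
    (by rw [Nat.card_zpowers, ht, pow_one] : Nat.card (zpowers t) = 2 ^ 1)).exists_le_sylow
  obtain ⟨g, hg⟩ := MulAction.exists_smul_eq G P S
  have hgt : g * t * g⁻¹ ∈ (S : Subgroup G) := by
    rw [← hg, Sylow.coe_subgroup_smul]
    exact (Subgroup.mem_pointwise_smul_iff_inv_smul_mem).2 (by
      simpa [MulAut.smul_def, mul_assoc] using hP (mem_zpowers t))
  obtain ⟨E, hE, hEe, hES, hE4⟩ := h.exists_four (a := g * t * g⁻¹) (by rw [Invol.order_conj, ht]) hgt
  obtain ⟨B, hEB, hB, -, hB8⟩ := h.exists_ext hEe hES hE4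
  refine deep_of_mem (A := B.map (MulAut.conj g⁻¹).toMonoidHom) (ea_map _ hB)
    (by rw [card_map_of_injective (MulAut.conj g⁻¹).injective]; exact hB8)
    ⟨_, hEB hE, by simp [mul_assoc]⟩ fun h1 => ?_
  rw [h1, orderOf_one] at ht
  exact absurd ht (by norm_num)

end Hub

end Cfsg.Agent.SolvCores
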